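import Cfsg.Agent.H713.Spor.HS
import Cfsg.Agent.H713.Spor.McL
import Cfsg.Agent.H704.DegOK
import Cfsg.Agent.H704.LowDegree
import Cfsg.Agent.H704.EnumP

/-!
# S4906: the rows `HS` and `McL` (helper765)

The degrees `22`, `77` of `HS` and `22`, `252` of `McL` against the degrees of `S_n`, up to a factor two.

* `row_hs` : `DegOK n HS` is impossible for `5 ≤ n`;
* `row_mcl` : `DegOK n McL` implies `n = 11` for `5 ≤ n`.
-/

set_option autoImplicit false

namespace Cfsg.Agent.H765.DS.HSMcL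

open Cfsg Cfsg.Agent.H704 Cfsg.Agent.Characters.Core
open Cfsg.Agent.Blocks.Basic (irr_one_eq_charDegree)

universe u

/-- transport of a degree -/
theorem exists_deg {H K : Type*} [Group H] [Group K] [Finite H] [Finite K] (e : K ≃* H) {m : ℕ} (χ : IrrCharacter H)
    (hχ : charDegree (χ : H → ℂ) = m) : ∃ ψ : K → ℂ, IsIrrCharacter K ψ ∧ ψ 1 = (m : ℂ) := by
  refine ⟨(χ : H → ℂ) ∘ e, isIrr_comp (e : K →* H) e.surjective χ.2, ?_⟩
  rw [Function.comp_apply, map_one, irr_one_eq_charDegree χ.2, hχ]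

/-- a degree of `S` and the degrees of `S_n` -/
theorem isDeg_of {n m : ℕ} {K : Type u} [Group K] (hd : DegOK n K)
    (h : ∃ ψ : K → ℂ, IsIrrCharacter K ψ ∧ ψ 1 = (m : ℂ)) : ∃ d : ℕ, IsDeg n d ∧ (d = m ∨ d = 2 * m) := by
  obtain ⟨ψ, h1, h2⟩ := h
  obtain ⟨d, h3, h4⟩ := hd ψ h1
  rw [h2] at h4
  refine ⟨d, h3, ?_⟩
  rcases h4 with h4 | h4
  · left
    exact_mod_cast h4
  · right
    exact_mod_cast h4

theorem hs_22 {K : Type u} [Group K] [Finite K] (h : Spor.IsoHS K) :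
    ∃ ψ : K → ℂ, IsIrrCharacter K ψ ∧ ψ 1 = ((22 : ℕ) : ℂ) := by
  obtain ⟨e⟩ := h
  obtain ⟨hs, hc⟩ := H713.Spor.HS.facts
  have hfin := Nat.finite_of_card_ne_zero
    (α := ↥(SporadicRecognition.HSRank.K H713.Spor.HS.V H713.Spor.HS.W)) (by rw [hc]; norm_num)
  obtain ⟨μ, -, hμ⟩ := H713.Spor.HS.exists_22
  have hdeg := H713.Spor.HS.degree_of_lchi hμ
  exact exists_deg (e.trans SporadicRecognition.HSRank.hsEquiv) μ (by omega)

theorem hs_77 {K : Type u} [Group K] [Finite K] (h : Spor.IsoHS K) :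
    ∃ ψ : K → ℂ, IsIrrCharacter K ψ ∧ ψ 1 = ((77 : ℕ) : ℂ) := by
  obtain ⟨e⟩ := h
  obtain ⟨hs, hc⟩ := H713.Spor.HS.facts
  have hfin := Nat.finite_of_card_ne_zero
    (α := ↥(SporadicRecognition.HSRank.K H713.Spor.HS.V H713.Spor.HS.W)) (by rw [hc]; norm_num)
  obtain ⟨μ, hμ⟩ := H713.Spor.HS.exists_77
  exact exists_deg (e.trans SporadicRecognition.HSRank.hsEquiv) μ hμ

theorem mcl_22 {K : Type u} [Group K] [Finite K] (h : Spor.IsoMcL K) :
    ∃ ψ : K → ℂ, IsIrrCharacter K ψ ∧ ψ 1 = ((22 : ℕ) : ℂ) := by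
  obtain ⟨e⟩ := h
  obtain ⟨hs, hc⟩ := H713.Spor.McL.facts
  have hfin := Nat.finite_of_card_ne_zero
    (α := ↥(SporadicRecognition.HSRank.K (-Spor.leechV) Spor.leechU)) (by rw [hc]; norm_num)
  obtain ⟨μ, -, hμ⟩ := H713.Spor.McL.exists_22
  have hdeg := H713.Spor.HS.degree_of_lchi hμ
  exact exists_deg (e.trans H713.Spor.McL.mclEquiv) μ (by omega)

theorem mcl_252 {K : Type u} [Group K] [Finite K] (h : Spor.IsoMcL K) :
    ∃ ψ : K → ℂ, IsIrrCharacter K ψ ∧ ψ 1 = ((252 : ℕ) : ℂ) := by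
  obtain ⟨e⟩ := h
  obtain ⟨hs, hc⟩ := H713.Spor.McL.facts
  have hfin := Nat.finite_of_card_ne_zero
    (α := ↥(SporadicRecognition.HSRank.K (-Spor.leechV) Spor.leechU)) (by rw [hc]; norm_num)
  obtain ⟨μ, hμ⟩ := H713.Spor.McL.exists_252
  exact exists_deg (e.trans H713.Spor.McL.mclEquiv) μ hμ

/-! ### The degrees of `S_n` -/

theorem no22_10 {d : ℕ} (h : IsDeg 10 d) : d ≠ 22 ∧ d ≠ 44 := by
  have := check_of_isDeg (chk := fun d => decide (d ≠ 22 ∧ d ≠ 44)) (by decide +kernel) h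
  simpa using this

theorem no77_11 {d : ℕ} (h : IsDeg 11 d) : d ≠ 77 ∧ d ≠ 154 := by
  have := check_of_isDeg (chk := fun d => decide (d ≠ 77 ∧ d ≠ 154)) (by decide +kernel) h
  simpa using this

theorem no252_23 {d : ℕ} (h : IsDeg 23 d) (hd : ¬ 23 ∣ d) : d ≠ 252 ∧ d ≠ 504 := by
  have := check_of_isDegP (chk := fun d => decide (d ≠ 252 ∧ d ≠ 504)) (n := 23) (E := 0) (r := 23)
    (by norm_num) (by norm_num) (by norm_num) (by decide +kernel) h hd
  simpa using this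

/-- the degree `22` -/
theorem of_22 {n : ℕ} (hn : 5 ≤ n) {d : ℕ} (h : IsDeg n d) (hd : d = 22 ∨ d = 2 * 22) : n = 11 ∨ n = 23 ∨ n = 45 := by
  obtain ⟨s5, s6, s7, s8, s9⟩ := deg_small h
  by_cases h10 : n ≤ 10
  · exfalso
    have h5 : n = 5 ∨ n = 6 ∨ n = 7 ∨ n = 8 ∨ n = 9 ∨ n = 10 := by omega
    rcases h5 with rfl | rfl | rfl | rfl | rfl | rfl
    · have := s5 rfl
      rcases hd with rfl | rfl <;> simp at this
    · have := s6 rfl
      rcases hd with rfl | rfl <;> simp at this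
    · have := s7 rfl
      rcases hd with rfl | rfl <;> simp at this
    · have := s8 rfl
      rcases hd with rfl | rfl <;> simp at this
    · have := s9 rfl
      rcases hd with rfl | rfl <;> simp at this
    · have := no22_10 h
      omega
  · rcases low_degree (by omega) h with h1 | h1 | h1
    · omega
    · omega
    · left
      by_contra hne
      have h2 : 12 * 9 ≤ n * (n - 3) := Nat.mul_le_mul (by omega) (by omega)
      omega

/-- **the row `HS`** -/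
theorem row_hs {K : Type u} [Group K] [Finite K] (h : Spor.IsoHS K) {n : ℕ} (hn : 5 ≤ n) (hd : DegOK n K) : False := by
  obtain ⟨d, h1, h2⟩ := isDeg_of hd (hs_22 h)
  obtain ⟨d', h3, h4⟩ := isDeg_of hd (hs_77 h)
  rcases of_22 hn h1 h2 with rfl | rfl | rfl
  · have := no77_11 h3
    omega
  · rcases low_degree (by norm_num) h3 with h5 | h5 | h5 <;> omega
  · rcases low_degree (by norm_num) h3 with h5 | h5 | h5 <;> omega

/-- **the row `McL`** -/
theorem row_mcl {K : Type u} [Group K] [Finite K] (h : Spor.IsoMcL K) {n : ℕ} (hn : 5 ≤ n) (hd : DegOK n K) :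
    n = 11 := by
  obtain ⟨d, h1, h2⟩ := isDeg_of hd (mcl_22 h)
  obtain ⟨d', h3, h4⟩ := isDeg_of hd (mcl_252 h)
  rcases of_22 hn h1 h2 with rfl | rfl | rfl
  · rfl
  · exfalso
    have := no252_23 h3 (by rcases h4 with rfl | rfl <;> norm_num)
    omega
  · rcases low_degree (by norm_num) h3 with h5 | h5 | h5 <;> omega

end Cfsg.Agent.H765.DS.HSMcL
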